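import Mathlib

/-!
Deviations of maps between abelian groups and maps pointed of degree two.
-/

set_option autoImplicit false

namespace Groth.Agent.PtDeg51

universe u v

variable {A : Type u} {G : Type v} [AddCommGroup A] [AddCommGroup G] {ι κ : Type*}

/-- The alternating sum over the subsets of `s`. -/
def altSum (f : A → G) (s : Finset ι) (x : ι → A) : G :=
  ∑ I ∈ s.powerset, ((-1 : ℤ) ^ (s.card + I.card)) • f (∑ i ∈ I, x i)

theorem altSum_congr (f : A → G) {s : Finset ι} {x y : ι → A} (h : ∀ i ∈ s, x i = y i) :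
    altSum f s x = altSum f s y := by
  refine Finset.sum_congr rfl fun I hI => ?_
  rw [Finset.sum_congr rfl fun i hi => h i (Finset.mem_powerset.1 hI hi)]

theorem altSum_insert [DecidableEq ι] (f : A → G) {s : Finset ι} {i : ι} (hi : i ∉ s) (x : ι → A) :
    altSum f (insert i s) x = altSum (fun z => f (x i + z)) s x - altSum f s x := by
  rw [altSum, Finset.sum_powerset_insert hi, altSum, altSum, add_comm, ← Finset.sum_add_distrib,
    ← Finset.sum_sub_distrib]
  refine Finset.sum_congr rfl fun I hI => ?_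
  have hiI : i ∉ I := fun h => hi (Finset.mem_powerset.1 hI h)
  rw [Finset.card_insert_of_notMem hi, Finset.card_insert_of_notMem hiI, Finset.sum_insert hiI,
    show s.card + 1 + (I.card + 1) = s.card + I.card + 2 by omega,
    show s.card + 1 + I.card = s.card + I.card + 1 by omega, pow_add, pow_succ]
  simp [sub_eq_add_neg, pow_succ]

theorem altSum_map (f : A → G) (e : ι ↪ κ) (s : Finset ι) (x : κ → A) :
    altSum f (s.map e) x = altSum f s (x ∘ e) := by
  classical
  simp only [altSum, Finset.card_map]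
  refine Finset.sum_bij' (fun J _ => J.preimage e e.injective.injOn) (fun I _ => I.map e) ?_ ?_ ?_ ?_ ?_
  · intro J hJ
    refine Finset.mem_powerset.2 fun i hi => ?_
    have := Finset.mem_powerset.1 hJ (Finset.mem_preimage.1 hi)
    simpa using this
  · intro I hI
    exact Finset.mem_powerset.2 (Finset.map_subset_map.2 (Finset.mem_powerset.1 hI))
  · intro J hJ
    ext k
    simp only [Finset.mem_map, Finset.mem_preimage]
    refine ⟨?_, fun hk => ?_⟩
    · rintro ⟨i, hi, rfl⟩; exact hi
    · obtain ⟨i, -, rfl⟩ := Finset.mem_map.1 (Finset.mem_powerset.1 hJ hk)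
      exact ⟨i, hk, rfl⟩
  · intro I _
    ext i
    simp
  · intro J hJ
    obtain ⟨I, -, rfl⟩ : ∃ I, I ⊆ s ∧ I.map e = J := by
      refine ⟨s.filter (fun i => e i ∈ J), Finset.filter_subset _ _, ?_⟩
      ext k
      simp only [Finset.mem_map, Finset.mem_filter]
      refine ⟨?_, fun hk => ?_⟩
      · rintro ⟨i, ⟨-, hi⟩, rfl⟩; exact hi
      · obtain ⟨i, hi, rfl⟩ := Finset.mem_map.1 (Finset.mem_powerset.1 hJ hk)
        exact ⟨i, ⟨hi, hk⟩, rfl⟩
    simp [Finset.sum_map]

theorem dev_eq (f : A → G) (k : ℕ) (x : Fin k → A) :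
    ∑ I ∈ ((Finset.univ : Finset (Fin k)).powerset.erase ∅), ((-1 : ℤ) ^ (k + I.card)) • f (∑ i ∈ I, x i) =
      altSum f Finset.univ x - ((-1 : ℤ) ^ k) • f 0 := by
  rw [altSum, ← Finset.sum_erase_add _ _ (Finset.empty_mem_powerset _)]
  simp

section Quad

variable {f : A → G} (hf : ∀ x y z : A, f (x + y + z) + f x + f y + f z = f (x + y) + f (x + z) + f (y + z))
include hf

theorem map_zero_of_quad : f 0 = 0 := by
  have h := hf 0 0 0
  simp only [add_zero] at h
  exact add_eq_left.1 h

theorem exists_bilinear : ∃ B : A →+ A →+ G, ∀ x y, B x y = f (x + y) - f x - f y := by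
  refine ⟨AddMonoidHom.mk' (fun x => AddMonoidHom.mk' (fun y => f (x + y) - f x - f y) fun y z => ?_)
    (fun x x' => AddMonoidHom.ext fun y => ?_), fun x y => rfl⟩
  · have h := hf x y z
    rw [← add_assoc]
    linear_combination (norm := abel) h
  · have h := hf x x' y
    show f (x + x' + y) - f (x + x') - f y = f (x + y) - f x - f y + (f (x' + y) - f x' - f y)
    linear_combination (norm := abel) h

theorem map_zsmul_quad (B : A →+ A →+ G) (hB : ∀ x y, B x y = f (x + y) - f x - f y) (n : ℤ) (x : A) :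
    f (n • x) = n • f x + (n * (n - 1) / 2) • B x x := by
  have hstep : ∀ m : ℤ, (m + 1) * m / 2 = m * (m - 1) / 2 + m := by
    intro m
    have : (m + 1) * m = m * (m - 1) + m * 2 := by ring
    rw [this, Int.add_mul_ediv_right _ _ two_ne_zero]
  have hrec : ∀ m : ℤ, f ((m + 1) • x) = f (m • x) + f x + m • B x x := by
    intro m
    have h := hB (m • x) x
    rw [map_zsmul, AddMonoidHom.zsmul_apply] at h
    rw [add_smul, one_smul, h]
    abel
  induction n using Int.induction_on with
  | zero => simp [map_zero_of_quad hf]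
  | succ i ih =>
    rw [hrec, ih, show ((i : ℤ) + 1 - 1) = i by ring, hstep]
    module
  | pred i ih =>
    have h := hrec (-(i : ℤ) - 1)
    rw [sub_add_cancel, ih] at h
    have h2 := hstep (-(i : ℤ) - 1)
    rw [sub_add_cancel] at h2
    rw [show -(i : ℤ) * (-(i : ℤ) - 1) / 2 = (-(i : ℤ) - 1) * (-(i : ℤ) - 1 - 1) / 2 + (-(i : ℤ) - 1)
      from h2] at h
    linear_combination (norm := module) -h

end Quad

end Groth.Agent.PtDeg51
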