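import Mathlib
import Groth.Agent.PtDeg51.Basic

/-!
Cocycles on compact groups are deviations.
-/

set_option autoImplicit false

universe u

open MeasureTheory Groth.Agent.PtDeg51

namespace Groth.Agent.PtDeg51

/-- Continuous real functions on a finite product of compact Hausdorff spaces are measurable for the
product `σ`-algebra. -/
theorem measurable_of_continuous_pi {ι : Type} [Fintype ι] {X : Type u} [TopologicalSpace X]
    [CompactSpace X] [T2Space X] [MeasurableSpace X] [BorelSpace X] (f : C(ι → X, ℝ)) : Measurable f := by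
  let P : ι → C(X, ℝ) → C(ι → X, ℝ) := fun i g => g.comp ⟨fun v => v i, continuous_apply i⟩
  let S : Subalgebra ℝ C(ι → X, ℝ) :=
    { carrier := {g | Measurable g}
      mul_mem' := fun ha hb => by simp only [Set.mem_ofPred_eq, ContinuousMap.coe_mul] at *; exact ha.mul hb
      add_mem' := fun ha hb => by simp only [Set.mem_ofPred_eq, ContinuousMap.coe_add] at *; exact ha.add hb
      algebraMap_mem' := fun r => measurable_const }
  have hP : ∀ i g, P i g ∈ S := fun i g => g.continuous.measurable.comp (measurable_pi_apply i)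
  have hsep : S.SeparatesPoints := by
    intro v w hvw
    obtain ⟨i, hi⟩ := Function.ne_iff.1 hvw
    obtain ⟨g, hg0, hg1, -⟩ := exists_continuous_zero_one_of_isClosed (isClosed_singleton (x := v i))
      (isClosed_singleton (x := w i)) (Set.disjoint_singleton.2 hi)
    exact ⟨_, ⟨P i g, hP i g, rfl⟩, by simp [P, hg0 rfl, hg1 rfl]⟩
  have hf : f ∈ closure (S : Set C(ι → X, ℝ)) := by
    rw [← Subalgebra.topologicalClosure_coe,
      ContinuousMap.subalgebra_topologicalClosure_eq_top_of_separatesPoints S hsep]
    trivial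
  obtain ⟨s, hs, hlim⟩ := mem_closure_iff_seq_limit.1 hf
  exact measurable_of_tendsto_metrizable hs
    (tendsto_pi_nhds.2 fun v => ((ContinuousEvalConst.continuous_eval_const v).tendsto f).comp hlim)

theorem continuous_integral_comp {X Y : Type*} [TopologicalSpace X] [TopologicalSpace Y] [CompactSpace Y]
    [MeasurableSpace Y] (ν : Measure Y) [IsProbabilityMeasure ν] (hm : ∀ g : C(Y, ℝ), Measurable g)
    (F : C(X × Y, ℝ)) : Continuous fun x => ∫ y, F (x, y) ∂ν := by
  have hint : ∀ g : C(Y, ℝ), Integrable g ν := fun g =>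
    Integrable.of_bound (hm g).aestronglyMeasurable ‖g‖ (Filter.Eventually.of_forall g.norm_coe_le_norm)
  have hI : Continuous fun g : C(Y, ℝ) => ∫ y, g y ∂ν := by
    refine (LipschitzWith.of_dist_le_mul (K := 1) fun g g' => ?_).continuous
    rw [Real.dist_eq, ← integral_sub (hint g) (hint g'), NNReal.coe_one, one_mul, dist_eq_norm]
    have hb : ∀ y, ‖g y - g' y‖ ≤ ‖g - g'‖ := fun y => (g - g').norm_coe_le_norm y
    have h := norm_integral_le_of_norm_le_const (μ := ν) (Filter.Eventually.of_forall hb)
    rwa [probReal_univ (μ := ν), mul_one, Real.norm_eq_abs] at h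
  exact hI.comp F.curry.continuous

theorem dev_cast {G : Type u} [AddCommGroup G] (f : G → ℝ) (k : ℕ) (x : Fin k → G) :
    ∑ I ∈ ((Finset.univ : Finset (Fin k)).powerset.erase ∅), (-1 : ℝ) ^ (k + I.card) * f (∑ i ∈ I, x i) =
      altSum f Finset.univ x - (-1 : ℝ) ^ k * f 0 := by
  have h := dev_eq f k x
  simp only [zsmul_eq_mul, Int.cast_pow, Int.cast_neg, Int.cast_one] at h
  exact h

/-- The deviation. -/
noncomputable def dev {G : Type u} [AddCommGroup G] (f : G → ℝ) (k : ℕ) (x : Fin k → G) : ℝ :=
  ∑ I ∈ ((Finset.univ : Finset (Fin k)).powerset.erase ∅), (-1 : ℝ) ^ (k + I.card) * f (∑ i ∈ I, x i)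

theorem dev_cons_cons {G : Type u} [AddCommGroup G] (f : G → ℝ) (n : ℕ) (a b : G) (r : Fin n → G) :
    dev f (n + 2) (Fin.cons a (Fin.cons b r)) =
      dev f (n + 1) (Fin.cons (a + b) r) - dev f (n + 1) (Fin.cons a r) - dev f (n + 1) (Fin.cons b r) := by
  have key : ∀ (g : G → ℝ) (k : ℕ) (v : G) (y : Fin k → G), altSum g Finset.univ (Fin.cons v y : Fin (k + 1) → G) =
      altSum (fun z => g (v + z)) Finset.univ y - altSum g Finset.univ y := by
    intro g k v y
    rw [show (Finset.univ : Finset (Fin (k + 1))) = insert 0 (Finset.univ.map ⟨Fin.succ, Fin.succ_injective k⟩) from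
        Finset.ext fun i => by cases i using Fin.cases <;> simp,
      altSum_insert g (by simp), altSum_map, altSum_map, Fin.cons_zero,
      show (Fin.cons v y : Fin (k + 1) → G) ∘ (⟨Fin.succ, Fin.succ_injective k⟩ : Fin k ↪ Fin (k + 1)) = y from
        funext fun i => Fin.cons_succ _ _ i]
  simp only [dev, dev_cast, key, pow_succ, ← add_assoc]
  ring

theorem dev_neg {G : Type u} [AddCommGroup G] (f : G → ℝ) (k : ℕ) (x : Fin k → G) :
    dev (fun g => - f g) k x = - dev f k x := by
  simp [dev, mul_neg, Finset.sum_neg_distrib]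

theorem dev_sub {G : Type u} [AddCommGroup G] (f g : G → ℝ) (k : ℕ) (x : Fin k → G) :
    dev (fun z => f z - g z) k x = dev f k x - dev g k x := by
  simp [dev, mul_sub, Finset.sum_sub_distrib]

theorem dev_one {G : Type u} [AddCommGroup G] (f : G → ℝ) (x : Fin 1 → G) : dev f 1 x = f (x 0) := by
  rw [dev, show (Finset.univ : Finset (Fin 1)).powerset.erase ∅ = {{0}} from by decide]
  simp

variable {G : Type u} [AddCommGroup G] [TopologicalSpace G] [IsTopologicalAddGroup G] [CompactSpace G]

theorem eq_zero_of_dev_eq_zero {δ : G → ℝ} {C : ℝ} (hC : ∀ g, |δ g| ≤ C) :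
    ∀ k : ℕ, (∀ x : Fin (k + 1) → G, dev δ (k + 1) x = 0) → ∀ g, δ g = 0 := by
  intro k
  induction k with
  | zero => intro h g; simpa [dev_one] using h fun _ => g
  | succ k ih =>
    intro h
    refine ih fun x => ?_
    rw [← Fin.cons_self_tail x]
    set r := Fin.tail x
    let D : G →+ ℝ := AddMonoidHom.mk' (fun a => dev δ (k + 1) (Fin.cons a r)) fun a b => by
      have := h (Fin.cons a (Fin.cons b r))
      rw [dev_cons_cons] at this
      linarith
    have hbd : ∀ a, |D a| ≤ ((Finset.univ : Finset (Fin (k + 1))).powerset.erase ∅).card * C := fun a => by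
      show |dev δ (k + 1) (Fin.cons a r)| ≤ _
      unfold dev
      refine (Finset.abs_sum_le_sum_abs _ _).trans ((Finset.sum_le_card_nsmul _ _ C fun I _ => ?_).trans
        (le_of_eq (nsmul_eq_mul _ _)))
      rw [abs_mul, abs_pow, abs_neg, abs_one, one_pow, one_mul]
      exact hC _
    show D (x 0) = 0
    by_contra hne
    obtain ⟨N, hN⟩ := exists_nat_gt (((Finset.univ : Finset (Fin (k + 1))).powerset.erase ∅).card * C / |D (x 0)|)
    rw [div_lt_iff₀ (abs_pos.2 hne)] at hN
    have h2 := hbd (N • x 0)
    rw [map_nsmul, nsmul_eq_mul, abs_mul, Nat.abs_cast] at h2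
    linarith

variable [T2Space G] [MeasurableSpace G] [BorelSpace G] (μ : Measure G) [μ.IsAddHaarMeasure] [IsProbabilityMeasure μ]

theorem continuous_pot (m : ℕ) (ψ : (Fin (m + 1) → G) → ℝ) (hψc : Continuous ψ) :
    Continuous fun g => ∫ u, ψ (Fin.cons g u) ∂(Measure.pi fun _ : Fin m => μ) :=
  continuous_integral_comp _ measurable_of_continuous_pi
    ⟨fun q : G × (Fin m → G) => ψ (Fin.cons q.1 q.2), hψc.comp (Continuous.finCons (A := fun _ => G) continuous_fst continuous_snd)⟩

theorem eq_dev (m : ℕ) : ∀ (ψ : (Fin (m + 1) → G) → ℝ), Continuous ψ →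
    (∀ (i j : Fin (m + 1)), i ≠ j → ∀ (x : Fin (m + 1) → G) (a b c : G),
      ψ (Function.update (Function.update x i (a + b)) j c) + ψ (Function.update (Function.update x i a) j b) =
        ψ (Function.update (Function.update x i a) j (b + c)) + ψ (Function.update (Function.update x i b) j c)) →
    ∀ x, ψ x = dev (fun g => (-1 : ℝ) ^ m * ∫ u, ψ (Fin.cons g u) ∂(Measure.pi fun _ : Fin m => μ)) (m + 1) x := by
  induction m with
  | zero =>
    intro ψ _ _ x
    rw [dev_one, pow_zero, one_mul, Measure.pi_of_empty, integral_dirac]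
    exact congrArg ψ (funext fun i => by fin_cases i; rfl)
  | succ m ih =>
    intro ψ hc hψ x
    have hic : Continuous fun q : (Fin (m + 1) → G) × G => ψ (Fin.insertNth 1 q.2 q.1) :=
      hc.comp (Continuous.finInsertNth (A := fun _ => G) 1 continuous_snd continuous_fst)
    let ψ' : (Fin (m + 1) → G) → ℝ := fun y => ∫ c, ψ (Fin.insertNth 1 c y) ∂μ
    have hint : ∀ y, Integrable (fun c => ψ (Fin.insertNth 1 c y)) μ := fun y =>
      (hc.comp (Continuous.finInsertNth (A := fun _ => G) 1 continuous_id continuous_const)).integrable_of_hasCompactSupport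
        (HasCompactSupport.of_compactSpace _)
    have hψ'c : Continuous ψ' :=
      continuous_integral_comp μ (fun g => g.continuous.measurable) ⟨_, hic⟩
    have hψ' : ∀ (i j : Fin (m + 1)), i ≠ j → ∀ (y : Fin (m + 1) → G) (a b c : G),
        ψ' (Function.update (Function.update y i (a + b)) j c) + ψ' (Function.update (Function.update y i a) j b) =
          ψ' (Function.update (Function.update y i a) j (b + c)) + ψ' (Function.update (Function.update y i b) j c) := by
      intro i j hij y a b c
      simp only [ψ']
      rw [← integral_add (hint _) (hint _), ← integral_add (hint _) (hint _)]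
      refine integral_congr_ae (Filter.Eventually.of_forall fun d => ?_)
      simp only [Fin.insertNth_update]
      exact hψ _ _ (fun h => hij (Fin.succAbove_right_injective h)) _ a b c
    have hins : ∀ (v c : G) (r : Fin m → G),
        Fin.insertNth (α := fun _ => G) 1 c (Fin.cons v r : Fin (m + 1) → G) = Fin.cons v (Fin.cons c r) := by
      intro v c r
      funext i
      rcases Fin.eq_self_or_eq_succAbove 1 i with rfl | ⟨j, rfl⟩
      · rw [Fin.insertNth_apply_same]; rfl
      · rw [Fin.insertNth_apply_succAbove]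
        cases j using Fin.cases with
        | zero => rfl
        | succ j => rw [Fin.one_succAbove_succ]; rfl
    have hred : ∀ (a b : G) (r : Fin m → G), ψ (Fin.cons a (Fin.cons b r)) =
        ψ' (Fin.cons a r) + ψ' (Fin.cons b r) - ψ' (Fin.cons (a + b) r) := by
      intro a b r
      have hupd : ∀ v w : G, Function.update (Function.update (Fin.cons a (Fin.cons b r) : Fin (m + 2) → G) 0 v) 1 w =
          Fin.cons v (Fin.cons w r) := by
        intro v w
        rw [Fin.update_cons_zero, ← Fin.succ_zero_eq_one, ← Fin.cons_update, Fin.update_cons_zero]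
      have h : ∀ c, ψ (Fin.cons (a + b) (Fin.cons c r)) + ψ (Fin.cons a (Fin.cons b r)) =
          ψ (Fin.cons a (Fin.cons (b + c) r)) + ψ (Fin.cons b (Fin.cons c r)) := fun c => by
        have := hψ 0 1 (by simp) (Fin.cons a (Fin.cons b r)) a b c
        simpa only [hupd] using this
      have hi : ∀ v, Integrable (fun c => ψ (Fin.cons v (Fin.cons c r))) μ := fun v => by
        simpa only [hins] using hint (Fin.cons v r)
      have hi' : Integrable (fun c => ψ (Fin.cons a (Fin.cons (b + c) r))) μ := (hi a).comp_add_left b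
      have hI := integral_congr_ae (μ := μ) (Filter.Eventually.of_forall h)
      rw [integral_add (hi _) (integrable_const _), integral_add hi' (hi _), integral_const,
        probReal_univ, one_smul, integral_add_left_eq_self (fun c => ψ (Fin.cons a (Fin.cons c r))) b] at hI
      simp only [ψ', hins]
      linarith
    have hpot : ∀ g, ∫ u, ψ (Fin.cons g u) ∂(Measure.pi fun _ : Fin (m + 1) => μ) =
        ∫ u, ψ' (Fin.cons g u) ∂(Measure.pi fun _ : Fin m => μ) := by
      intro g
      have hF : Measurable fun u : Fin (m + 1) → G => ψ (Fin.cons g u) :=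
        measurable_of_continuous_pi ⟨_, hc.comp (Continuous.finCons (A := fun _ => G) continuous_const continuous_id)⟩
      obtain ⟨C, hC⟩ := (isCompact_univ (X := Fin (m + 1) → G)).exists_bound_of_continuousOn
        (f := fun u => ψ (Fin.cons g u)) (hc.comp (Continuous.finCons (A := fun _ => G) continuous_const continuous_id)).continuousOn
      have hFi : Integrable (fun u => ψ (Fin.cons g u)) (Measure.pi fun _ : Fin (m + 1) => μ) :=
        Integrable.of_bound hF.aestronglyMeasurable C (Filter.Eventually.of_forall fun u => hC u trivial)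
      have mp := (measurePreserving_piFinSuccAbove (fun _ : Fin (m + 1) => μ) 0).symm _
      rw [← mp.integral_comp' (fun u => ψ (Fin.cons g u))]
      have hPi : Integrable (fun z : G × (Fin m → G) => ψ (Fin.cons g
          ((MeasurableEquiv.piFinSuccAbove (fun _ : Fin (m + 1) => G) 0).symm z)))
          (μ.prod (Measure.pi fun _ : Fin m => μ)) :=
        (mp.integrable_comp_emb (MeasurableEquiv.measurableEmbedding _)).2 hFi
      rw [integral_prod_symm _ hPi]
      refine integral_congr_ae (Filter.Eventually.of_forall fun u => ?_)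
      simp only [ψ', hins, MeasurableEquiv.piFinSuccAbove_symm_apply, Function.comp_def, Fin.insertNthEquiv,
        Equiv.coe_fn_mk, Fin.insertNth_zero']
    rw [← Fin.cons_self_tail x, ← Fin.cons_self_tail (Fin.tail x), hred, ih ψ' hψ'c hψ', ih ψ' hψ'c hψ',
      ih ψ' hψ'c hψ', dev_cons_cons]
    simp only [hpot, pow_succ, mul_neg_one, neg_mul, dev_neg]
    ring

end Groth.Agent.PtDeg51
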